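import Groth.Agent.PicLocLib.PushDesc
import Groth.Agent.AVRosati.Frob
import Groth.Agent.ParaFX.Functions
import Groth.Agent.MorLib.BaseChangeLim
import Groth.Agent.PicLim.Descend
import Groth.Prelude.Def_Frob
import Groth.Prelude.Def_PicLoc

/-!
# Torsion line bundles and purely inseparable field extensions
-/

set_option autoImplicit false
set_option linter.style.haveILetI false
set_option linter.unusedSectionVars false
set_option backward.isDefEq.respectTransparency false
set_option backward.isDefEq.respectTransparency.types false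
set_option maxHeartbeats 1000000
set_option synthInstance.maxHeartbeats 400000

universe u

open CategoryTheory CategoryTheory.Limits AlgebraicGeometry Opposite

namespace Groth.Agent.PicInsep

open scoped Groth.Agent.H23.PicMul

variable (p : ℕ) [Fact p.Prime]

/-- Iterates of the absolute Frobenius. -/
noncomputable def frobPow (X : Scheme.{u}) [FrobSch.IsCharP X p] : ℕ → (X ⟶ X)
  | 0 => 𝟙 X
  | e + 1 => frobPow X e ≫ FrobSch.frob X p

theorem frobPow_comp {X Y : Scheme.{u}} [FrobSch.IsCharP X p] [FrobSch.IsCharP Y p] (f : X ⟶ Y) (e : ℕ) :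
    frobPow p X e ≫ f = f ≫ frobPow p Y e := by
  induction e with
  | zero => simp [frobPow]
  | succ e ih =>
    show (frobPow p X e ≫ FrobSch.frob X p) ≫ f = f ≫ frobPow p Y e ≫ FrobSch.frob Y p
    rw [Category.assoc, FrobSch.frob_comp, reassoc_of% ih]

theorem pullCl_frob {X : Scheme.{u}} [FrobSch.IsCharP X p] {c : PicF.Cl X} (hc : PicF.IsInvertibleCl c) :
    PicF.pullCl (FrobSch.frob X p) c = c ^ p := by
  obtain ⟨L, rfl, hL⟩ := hc
  exact AVRosati.cl_pullback_frob (FrobSch.frob X p) rfl (fun U => le_of_eq (FrobSch.frob_preimage X p U).symm) p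
    (fun U s => by
      simp only [Scheme.Hom.appLE, CommRingCat.hom_comp, RingHom.comp_apply, FrobSch.frob_app]
      exact ConcreteCategory.congr_hom (X.presheaf.map_id (op U)) (s ^ p)) hL

theorem pullCl_frobPow {X : Scheme.{u}} [FrobSch.IsCharP X p] {c : PicF.Cl X} (hc : PicF.IsInvertibleCl c) (e : ℕ) :
    PicF.pullCl (frobPow p X e) c = c ^ p ^ e := by
  induction e with
  | zero => rw [pow_zero, pow_one]; exact PicLoc.pullCl_id c
  | succ e ih =>
    show PicF.pullCl (frobPow p X e ≫ FrobSch.frob X p) c = _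
    rw [PicLoc.pullCl_comp, pullCl_frob p hc, H23.PicMul.pullCl_pow, ih, ← pow_mul, ← pow_succ]

theorem frobPow_spec (A : Type u) [CommRing A] [CharP A p] (e : ℕ) :
    frobPow p (Spec (CommRingCat.of A)) e = Spec.map (CommRingCat.ofHom (iterateFrobenius A p e)) := by
  induction e with
  | zero =>
    show 𝟙 _ = _
    rw [show CommRingCat.ofHom (iterateFrobenius A p 0) = 𝟙 (CommRingCat.of A) from
      CommRingCat.hom_ext (iterateFrobenius_zero (R := A) p), Spec.map_id]
  | succ e ih =>
    have h : FrobSch.frob (Spec (CommRingCat.of A)) p = Spec.map (CommRingCat.ofHom (frobenius A p)) := by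
      refine ext_of_isAffine ?_
      ext s
      rw [FrobSch.frob_appTop]
      obtain ⟨a, rfl⟩ := (ConcreteCategory.bijective_of_isIso (Scheme.ΓSpecIso (CommRingCat.of A)).inv).2 s
      refine Eq.trans ?_ (ConcreteCategory.congr_hom
        (Scheme.ΓSpecIso_inv_naturality (CommRingCat.ofHom (frobenius A p))) a)
      exact (map_pow _ a p).symm
    show frobPow p _ e ≫ FrobSch.frob _ p = _
    rw [ih, h, ← Spec.map_comp]
    congr 1
    ext a
    show iterateFrobenius A p e (frobenius A p a) = iterateFrobenius A p (e + 1) a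
    rw [iterateFrobenius_def, iterateFrobenius_def, frobenius_def, ← pow_mul, ← pow_succ']

variable {k : Type u} [Field k] {X : Scheme.{u}} (f : X ⟶ Spec (CommRingCat.of k))

/-- Pullback to an extension field is injective on invertible classes. -/
theorem eq_one_of_pullCl [QuasiCompact f] [QuasiSeparated f] (hH0 : IsIso f.appTop) {k' : Type u} [Field k']
    [Algebra k k'] {c : PicF.Cl X} (hc : PicF.IsInvertibleCl c)
    (h : PicF.pullCl (pullback.fst f (Spec.map (CommRingCat.ofHom (algebraMap k k')))) c = 1) : c = 1 := by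
  obtain ⟨L, rfl, hL⟩ := hc
  rw [H23.PicMul.one_def] at h
  let φ := Spec.map (CommRingCat.ofHom (algebraMap k k'))
  haveI : Flat φ := Flat.SpecMap_iff.2 (RingHom.flat_algebraMap_iff.2 inferInstance)
  haveI : Surjective φ := ⟨fun x => ⟨IsLocalRing.closedPoint k', Subsingleton.elim (α := PrimeSpectrum k) _ x⟩⟩
  obtain ⟨h1, h2, -⟩ := ParaFX.PushTriv.push_triv f φ (pullback.snd f φ) (pullback.fst f φ)
    (fun V => PicLocLib.bijective_app_of_flat f (𝟙 _) f (𝟙 X) (IsPullback.of_horiz_isIso ⟨by simp⟩)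
      ((ConcreteCategory.isIso_iff_bijective _).1 hH0) V)
    (IsPullback.of_hasPullback f φ) L hL (H23.PicMul.cl_eq_iff.1 h)
  obtain ⟨e⟩ := ParaFX.picTrivial_spec_local k _ h1
  rw [H23.PicMul.one_def]
  exact H23.PicMul.cl_eq_iff.2 ⟨(@asIso _ _ _ _ _ h2).symm ≪≫
    (Scheme.Modules.pullback f).mapIso e ≪≫ PicLoc.pullbackStructureIso f⟩

theorem exists_pow_range [CharP k p] {k' : Type u} [Field k'] [Algebra k k'] [IsPurelyInseparable k k']
    (B : Subalgebra k k') (hB : B.FG) : ∃ e : ℕ, ∀ b ∈ B, b ^ p ^ e ∈ (algebraMap k k').range := by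
  classical
  haveI : CharP k' p := charP_of_injective_algebraMap (algebraMap k k').injective p
  obtain ⟨s, rfl⟩ := hB
  have hx : ∀ x : k', ∃ e : ℕ, x ^ p ^ e ∈ (algebraMap k k').range := fun x => IsPurelyInseparable.pow_mem k p x
  choose e he using hx
  refine ⟨s.sup e, fun b hb => ?_⟩
  induction hb using Algebra.adjoin_induction with
  | mem x hx =>
    obtain ⟨d, hd⟩ := Nat.exists_eq_add_of_le (Finset.le_sup (f := e) hx)
    rw [hd, pow_add, pow_mul]
    exact pow_mem (he x) _
  | algebraMap r => exact pow_mem (RingHom.mem_range_self (algebraMap k k') r) _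
  | add x y _ _ hx hy => rw [add_pow_char_pow]; exact add_mem hx hy
  | mul x y _ _ hx hy => rw [mul_pow]; exact mul_mem hx hy

/-- Torsion classes prime to the characteristic descend along purely inseparable extensions. -/
theorem exists_descend [CompactSpace X] [QuasiSeparatedSpace X] (hH0 : IsIso f.appTop) [CharP k p] (n : ℕ) (hn : ¬ p ∣ n)
    (k' : Type u) [Field k'] [Algebra k k'] [IsPurelyInseparable k k']
    (d : PicF.Cl (pullback f (Spec.map (CommRingCat.ofHom (algebraMap k k'))))) (hd : PicF.IsInvertibleCl d)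
    (hdn : d ^ n = 1) :
    ∃ c : PicF.Cl X, PicF.IsInvertibleCl c ∧ c ^ n = 1 ∧
      PicF.pullCl (pullback.fst f (Spec.map (CommRingCat.ofHom (algebraMap k k')))) c = d := by
  classical
  haveI : QuasiCompact f := (quasiCompact_iff_compactSpace f).2 ‹_›
  haveI : QuasiSeparated f := (quasiSeparated_iff_quasiSeparatedSpace f).2 ‹_›
  let ι := {B : Subalgebra k k' // B.FG}
  letI : SemilatticeSup ι := Subtype.semilatticeSup fun _ _ h h' => h.sup h'
  haveI : Nonempty ι := ⟨⟨⊥, Subalgebra.fg_bot⟩⟩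
  let F : ι ⥤ CommRingCat.{u} :=
    { obj := fun B => CommRingCat.of B.1
      map := fun {B C} g => CommRingCat.ofHom (Subalgebra.inclusion (leOfHom g : B.1 ≤ C.1)).toRingHom
      map_id := fun _ => rfl
      map_comp := fun _ _ => rfl }
  let cF : Cocone F :=
    { pt := CommRingCat.of k'
      ι := { app := fun B => CommRingCat.ofHom B.1.val.toRingHom, naturality := fun _ _ _ => rfl } }
  have hF : IsColimit cF := by
    haveI : ReflectsColimit F (forget CommRingCat) := reflectsColimit_of_reflectsIsomorphisms _ _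
    refine isColimitOfReflects (forget CommRingCat) (Types.FilteredColimit.isColimitOf' _ _ ?_ ?_)
    · intro (x : k')
      exact ⟨(⟨Algebra.adjoin k {x}, ⟨{x}, by simp⟩⟩ : ι), ⟨x, Algebra.self_mem_adjoin_singleton k x⟩, rfl⟩
    · intro i x y hxy
      exact ⟨i, 𝟙 i, Subtype.ext hxy⟩
  let D : ιᵒᵖ ⥤ Scheme.{u} := F.op ⋙ Scheme.Spec
  let cD : Cone D := Scheme.Spec.mapCone cF.op
  have hlim : IsLimit cD := isLimitOfPreserves Scheme.Spec hF.op
  haveI : ∀ {i j : ιᵒᵖ} (g : i ⟶ j), IsAffineHom (D.map g) := fun g =>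
    inferInstanceAs (IsAffineHom (Spec.map _))
  let i₀ : ιᵒᵖ := op ⟨⊥, Subalgebra.fg_bot⟩
  let s₀ : D.obj i₀ ⟶ Spec (CommRingCat.of k) :=
    Spec.map (CommRingCat.ofHom (algebraMap k (⊥ : Subalgebra k k')))
  let g' := Spec.map (CommRingCat.ofHom (algebraMap k k'))
  have hs₀ : cD.π.app i₀ ≫ s₀ = g' := by
    show Spec.map _ ≫ Spec.map _ = _
    rw [← Spec.map_comp]
    rfl
  let xi : pullback f s₀ ⟶ D.obj i₀ := pullback.snd f s₀
  haveI : CompactSpace ↥(pullback f s₀) := by
    haveI : CompactSpace ↥(D.obj i₀) := inferInstanceAs (CompactSpace ↥(Spec _))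
    exact QuasiCompact.compactSpace_of_compactSpace xi
  haveI : QuasiSeparatedSpace ↥(pullback f s₀) := by
    haveI : QuasiSeparatedSpace ↥(D.obj i₀) := inferInstanceAs (QuasiSeparatedSpace ↥(Spec _))
    exact quasiSeparatedSpace_of_quasiSeparated xi
  let q₀ : pullback f g' ⟶ pullback f s₀ :=
    pullback.lift (pullback.fst f g') (pullback.snd f g' ≫ cD.π.app i₀)
      (by rw [Category.assoc, hs₀]; exact pullback.condition)
  have hX : IsPullback q₀ (pullback.snd f g') xi (cD.π.app i₀) := by
    refine IsPullback.of_right ?_ (pullback.lift_snd _ _ _) (IsPullback.of_hasPullback f s₀)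
    rw [pullback.lift_fst, hs₀]
    exact IsPullback.of_hasPullback f g'
  haveI : ∀ {a b : Over i₀} (g : a ⟶ b), IsAffineHom ((MorLib.BC.diag D xi).map g) := fun g =>
    MorphismProperty.of_isPullback (MorLib.BC.isPullback_map D xi g).flip inferInstance
  haveI : ∀ j, CompactSpace ((MorLib.BC.diag D xi).obj j) := fun j => by
    show CompactSpace ↥(pullback xi (D.map j.hom))
    exact QuasiCompact.compactSpace_of_compactSpace (pullback.fst xi (D.map j.hom))
  haveI : ∀ j, QuasiSeparatedSpace ((MorLib.BC.diag D xi).obj j) := fun j => by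
    show QuasiSeparatedSpace ↥(pullback xi (D.map j.hom))
    exact quasiSeparatedSpace_of_quasiSeparated (pullback.fst xi (D.map j.hom))
  obtain ⟨Ld, rfl, hLd⟩ := hd
  obtain ⟨j, -, Lj, hLj, ⟨θ⟩⟩ := PicLim.exists_invertible_descend (MorLib.BC.diag D xi)
    (MorLib.BC.cone D xi hX) (MorLib.BC.isLimitCone D xi hX hlim) (Over.mk (𝟙 i₀)) Ld hLd
  obtain ⟨e, he⟩ := exists_pow_range p j.left.unop.1 j.left.unop.2
  haveI : CharP k' p := charP_of_injective_algebraMap (algebraMap k k').injective p
  let Bj := j.left.unop.1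
  let ek : k ≃+* (algebraMap k k').range := RingEquiv.ofBijective (algebraMap k k').rangeRestrict
    ⟨fun a b h => (algebraMap k k').injective (congrArg Subtype.val h), (algebraMap k k').rangeRestrict_surjective⟩
  let ρ : Bj →+* k := ek.symm.toRingHom.comp
    (((iterateFrobenius k' p e).comp Bj.val.toRingHom).codRestrict (algebraMap k k').range
      fun b => he b.1 b.2)
  have hρ : ∀ b : Bj, algebraMap k k' (ρ b) = (b : k') ^ p ^ e := fun b => by
    show ((ek (ek.symm _) : (algebraMap k k').range) : k') = _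
    rw [RingEquiv.apply_symm_apply]
    exact iterateFrobenius_def ..
  haveI : FrobSch.IsCharP X p := FrobSch.IsCharP.of_hom f p
  haveI : FrobSch.IsCharP (pullback f g') p := FrobSch.IsCharP.of_hom (pullback.snd f g') p
  -- the comparison `X ⟶ X ×_k Spec B`
  let φ₀ : X ⟶ pullback f s₀ := pullback.lift (frobPow p X e)
    (f ≫ Spec.map (CommRingCat.ofHom ρ) ≫ D.map j.hom) (by
      rw [frobPow_comp p f e, frobPow_spec p k e]
      simp only [Category.assoc]
      congr 1
      show _ = Spec.map _ ≫ Spec.map _ ≫ Spec.map _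
      rw [← Spec.map_comp, ← Spec.map_comp]
      congr 1
      ext a
      show iterateFrobenius k p e a = ρ (algebraMap k Bj a)
      apply (algebraMap k k').injective
      rw [hρ, iterateFrobenius_def, map_pow]
      rfl)
  let φ : X ⟶ (MorLib.BC.diag D xi).obj j :=
    pullback.lift φ₀ (f ≫ Spec.map (CommRingCat.ofHom ρ)) (by rw [pullback.lift_snd, Category.assoc])
  have key : pullback.fst f g' ≫ φ = frobPow p (pullback f g') e ≫ MorLib.BC.proj (c := cD) D xi hX j := by
    have hsnd : pullback.fst f g' ≫ f ≫ Spec.map (CommRingCat.ofHom ρ) =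
        frobPow p (pullback f g') e ≫ pullback.snd f g' ≫ cD.π.app j.left := by
      rw [reassoc_of% (frobPow_comp p (pullback.snd f g') e), pullback.condition_assoc, frobPow_spec p k' e]
      congr 1
      show Spec.map _ ≫ Spec.map _ = Spec.map _ ≫ Spec.map _
      rw [← Spec.map_comp, ← Spec.map_comp]
      congr 1
      ext b
      show algebraMap k k' (ρ b) = iterateFrobenius k' p e b.1
      rw [hρ, iterateFrobenius_def]
    apply pullback.hom_ext
    · rw [Category.assoc, Category.assoc, pullback.lift_fst, MorLib.BC.proj_fst]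
      apply pullback.hom_ext
      · rw [Category.assoc, Category.assoc, pullback.lift_fst, pullback.lift_fst, frobPow_comp]
      · rw [Category.assoc, Category.assoc, pullback.lift_snd, pullback.lift_snd,
          reassoc_of% hsnd, cD.w j.hom]
    · rw [Category.assoc, Category.assoc, pullback.lift_snd, MorLib.BC.proj_snd]
      exact hsnd
  have hcop : Nat.Coprime (p ^ e) n := Nat.Coprime.pow_left e ((Nat.Prime.coprime_iff_not_dvd Fact.out).2 hn)
  obtain ⟨a, ha⟩ : ∃ a, p ^ e * a % n = 1 % n := by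
    rcases Nat.lt_or_ge 1 n with h | h
    · obtain ⟨a, -, ha⟩ := Nat.exists_mul_mod_eq_one_of_coprime hcop h
      exact ⟨a, by rw [ha, Nat.mod_eq_of_lt h]⟩
    · refine ⟨1, ?_⟩
      obtain rfl : n = 1 := by
        rcases Nat.eq_zero_or_pos n with rfl | h0
        · exact absurd (dvd_zero p) hn
        · omega
      simp [Nat.mod_one]
  have hc₀ : PicF.IsInvertibleCl (PicF.pullCl φ (PicF.cl Lj)) := PicLoc.isInvertibleCl_pullCl φ ⟨Lj, rfl, hLj⟩
  have hpow : ∀ m : ℕ, PicF.IsInvertibleCl (PicF.pullCl φ (PicF.cl Lj) ^ m) := fun m => by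
    obtain ⟨M, hM, hMi⟩ := hc₀
    rw [← hM, ← H23.PicMul.cl_tensorPow]
    exact ⟨_, rfl, H23.PicMul.isInvertible_tensorPow hMi m⟩
  have hproj : PicF.pullCl (MorLib.BC.proj (c := cD) D xi hX j) (PicF.cl Lj) = PicF.cl Ld :=
    H23.PicMul.cl_eq_iff.2 ⟨θ⟩
  have hpull : PicF.pullCl (pullback.fst f g') (PicF.pullCl φ (PicF.cl Lj) ^ a) = PicF.cl Ld := by
    rw [H23.PicMul.pullCl_pow, ← PicLoc.pullCl_comp, key, PicLoc.pullCl_comp, hproj,
      pullCl_frobPow p ⟨Ld, rfl, hLd⟩, ← pow_mul, ← Nat.mod_add_div (p ^ e * a) n, ha, pow_add,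
      pow_mul, hdn, one_pow, mul_one]
    rcases Nat.lt_or_ge 1 n with h | h
    · rw [Nat.mod_eq_of_lt h, pow_one]
    · obtain rfl : n = 1 := by
        rcases Nat.eq_zero_or_pos n with rfl | h0
        · exact absurd (dvd_zero p) hn
        · omega
      rw [Nat.mod_one, pow_zero, ← hdn, pow_one]
  refine ⟨_, hpow a, eq_one_of_pullCl f hH0 ?_ (k' := k') ?_, hpull⟩
  · rw [← pow_mul]; exact hpow _
  · rw [H23.PicMul.pullCl_pow, hpull, hdn]

/-- The statement for classes with a trivialized power. -/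
theorem exists_descend_pow [CompactSpace X] [QuasiSeparatedSpace X] (hH0 : IsIso f.appTop) [CharP k p] (n : ℕ) (hn : ¬ p ∣ n)
    (k' : Type u) [Field k'] [Algebra k k'] [IsPurelyInseparable k k']
    (d : PicF.Cl (pullback f (Spec.map (CommRingCat.ofHom (algebraMap k k'))))) (hd : PicF.IsInvertibleCl d)
    (h : ∃ M, PicF.cl M = d ∧ Nonempty (CohB1.tensorPow M n ≅ Coh.structureModule _)) :
    ∃ c : PicF.Cl X, (PicF.IsInvertibleCl c ∧ ∃ M : X.Modules, PicF.cl M = c ∧
        Nonempty (CohB1.tensorPow M n ≅ Coh.structureModule X)) ∧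
      PicF.pullCl (pullback.fst f (Spec.map (CommRingCat.ofHom (algebraMap k k')))) c = d := by
  obtain ⟨M, rfl, hM⟩ := h
  have hdn : PicF.cl M ^ n = 1 := (H23.PicMul.cl_tensorPow M n).symm.trans (H23.PicMul.cl_eq_iff.2 hM)
  obtain ⟨c, hc, hcn, hpull⟩ := exists_descend p f hH0 n hn k' _ hd hdn
  obtain ⟨L, hL, hLi⟩ := id hc
  subst hL
  exact ⟨_, ⟨hc, L, rfl, H23.PicMul.cl_eq_iff.1 ((H23.PicMul.cl_tensorPow L n).trans hcn)⟩, hpull⟩

end Groth.Agent.PicInsep
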